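import Groth.Agent.ResProp.EF.K624.Nodes

/-!
# G2b J10b: the killing lemma `Kill` from `KillLat`, `HasOneStep`, `LiftClass2` and the invariant of admissible groups
-/

set_option autoImplicit false

universe u

open TensorProduct

noncomputable section

namespace Groth.Agent.ResProp.EF.K364

open Groth.Agent.ResProp.EF.Grp Groth.Agent.ResProp.EF.K624

variable {k : Type u} [CommRing k]

section Func

variable {E : Gp k}

theorem cmap_eq (M N : GMod E) (f : M.V →ₗ[k] N.V) (n : ℕ) :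
    cmap M N f n = K187.HochMap.map k E.O f n := by
  induction n with
  | zero => rfl
  | succ n ih =>
    show (cmap M N f n).rTensor E.O = (K187.HochMap.map k E.O f n).rTensor E.O
    rw [ih]

theorem d_cmap (M N : GMod E) {f : M.V →ₗ[k] N.V} (hf : Hoch.IsComodHom E.O f) (n : ℕ) (c : M.C n) :
    N.d n (cmap M N f n c) = cmap M N f (n + 1) (M.d n c) := by
  rw [cmap_eq, cmap_eq]
  exact K187.HochMap.d_map_apply k E.O hf n c

theorem cmap_comp (M N P : GMod E) (g : N.V →ₗ[k] P.V) (f : M.V →ₗ[k] N.V) (n : ℕ) (c : M.C n) :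
    cmap N P g n (cmap M N f n c) = cmap M P (g ∘ₗ f) n c := by
  rw [cmap_eq, cmap_eq, cmap_eq, K187.HochMap.map_comp]
  rfl

variable {E' : Gp k} (φ : E.O →ₐc[k] E'.O)

theorem redComul_map (a : E.O) :
    Hoch.redComul k E'.O (φ a) =
      TensorProduct.map (φ : E.O →ₐ[k] E'.O).toLinearMap (φ : E.O →ₐ[k] E'.O).toLinearMap (Hoch.redComul k E.O a) := by
  have h : Coalgebra.comul (R := k) (φ a) = TensorProduct.map (φ : E.O →ₐ[k] E'.O).toLinearMap
      (φ : E.O →ₐ[k] E'.O).toLinearMap (Coalgebra.comul (R := k) a) :=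
    (CoalgHomClass.map_comp_comul_apply φ a).symm
  rw [Hoch.redComul_apply, Hoch.redComul_apply, h, map_sub, map_sub, TensorProduct.map_tmul,
    TensorProduct.map_tmul]
  simp

theorem tail_map {M N : Type u} [AddCommGroup M] [Module k M] [AddCommGroup N] [Module k N]
    (g : M →ₗ[k] N) (x : M ⊗[k] E.O) :
    Hoch.tail k E'.O N (TensorProduct.map g (φ : E.O →ₐ[k] E'.O).toLinearMap x) =
      TensorProduct.map (TensorProduct.map g (φ : E.O →ₐ[k] E'.O).toLinearMap) (φ : E.O →ₐ[k] E'.O).toLinearMap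
        (Hoch.tail k E.O M x) := by
  induction x using TensorProduct.induction_on with
  | zero => simp
  | add x y hx hy => simp only [map_add, hx, hy]
  | tmul m a =>
    have h1 : Hoch.tail k E'.O N (g m ⊗ₜ[k] φ a) =
        (TensorProduct.assoc k N E'.O E'.O).symm (g m ⊗ₜ[k] Hoch.redComul k E'.O (φ a)) := rfl
    have h2 : Hoch.tail k E.O M (m ⊗ₜ[k] a) =
        (TensorProduct.assoc k M E.O E.O).symm (m ⊗ₜ[k] Hoch.redComul k E.O a) := rfl
    have h3 : ∀ w : E.O ⊗[k] E.O,
        (TensorProduct.assoc k N E'.O E'.O).symm (g m ⊗ₜ[k]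
          TensorProduct.map (φ : E.O →ₐ[k] E'.O).toLinearMap (φ : E.O →ₐ[k] E'.O).toLinearMap w) =
        TensorProduct.map (TensorProduct.map g (φ : E.O →ₐ[k] E'.O).toLinearMap) (φ : E.O →ₐ[k] E'.O).toLinearMap
          ((TensorProduct.assoc k M E.O E.O).symm (m ⊗ₜ[k] w)) := by
      intro w
      induction w using TensorProduct.induction_on with
      | zero => simp
      | add x y hx hy => simp only [map_add, TensorProduct.tmul_add, hx, hy]
      | tmul b c => simp
    rw [TensorProduct.map_tmul]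
    refine h1.trans ?_
    rw [h2, redComul_map, h3]

theorem d_cres (M : GMod E) (n : ℕ) (c : M.C n) :
    (M.res φ).d n (cres φ M n c) = cres φ M (n + 1) (M.d n c) := by
  induction n with
  | zero =>
    show (TensorProduct.map LinearMap.id (φ : E.O →ₗ[k] E'.O)) (M.co.coact c) - c ⊗ₜ[k] (1 : E'.O) =
      TensorProduct.map LinearMap.id (φ : E.O →ₐ[k] E'.O).toLinearMap (M.co.coact c - c ⊗ₜ[k] (1 : E.O))
    rw [map_sub, TensorProduct.map_tmul]
    simp
    rfl
  | succ n ih =>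
    have key : ∀ c : (M.C n) ⊗[k] E.O,
        ((M.res φ).d n).rTensor E'.O (TensorProduct.map (cres φ M n) (φ : E.O →ₐ[k] E'.O).toLinearMap c) =
          TensorProduct.map (cres φ M (n + 1)) (φ : E.O →ₐ[k] E'.O).toLinearMap ((M.d n).rTensor E.O c) := by
      intro c
      induction c using TensorProduct.induction_on with
      | zero => simp
      | add x y hx hy => simp only [map_add, hx, hy]
      | tmul m a =>
        simp only [TensorProduct.map_tmul, LinearMap.rTensor_tmul]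
        rw [ih]
    have t := tail_map φ (cres φ M n) c
    show ((M.res φ).d n).rTensor E'.O (TensorProduct.map (cres φ M n) (φ : E.O →ₐ[k] E'.O).toLinearMap c) +
        ((-1 : k) ^ (n + 1)) • Hoch.tail k E'.O _ (TensorProduct.map (cres φ M n) (φ : E.O →ₐ[k] E'.O).toLinearMap c) =
      TensorProduct.map (cres φ M (n + 1)) (φ : E.O →ₐ[k] E'.O).toLinearMap
        ((M.d n).rTensor E.O c + ((-1 : k) ^ (n + 1)) • Hoch.tail k E.O _ c)
    rw [map_add, map_smul, key c]
    congr 2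

theorem cres_cmap (M N : GMod E) (f : M.V →ₗ[k] N.V) (n : ℕ) (c : M.C n) :
    cres φ N n (cmap M N f n c) = cmap (M.res φ) (N.res φ) f n (cres φ M n c) := by
  induction n with
  | zero => rfl
  | succ n ih =>
    show TensorProduct.map (cres φ N n) (φ : E.O →ₐ[k] E'.O).toLinearMap ((cmap M N f n).rTensor E.O c) =
      (cmap (M.res φ) (N.res φ) f n).rTensor E'.O (TensorProduct.map (cres φ M n) (φ : E.O →ₐ[k] E'.O).toLinearMap c)
    induction c using TensorProduct.induction_on with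
    | zero => simp
    | add x y hx hy => simp only [map_add, hx, hy]
    | tmul m a =>
      simp only [TensorProduct.map_tmul, LinearMap.rTensor_tmul]
      rw [ih]

end Func

section Homs

variable {E : Gp k}

theorem tmulR_hom (M N : GMod E) (x : N.V) (hx : N.co.coact x = x ⊗ₜ[k] (1 : E.O)) :
    @Hoch.IsComodHom k _ E.O _ _ _ M.V _ _ M.co (M.tens N).V _ _ (M.tens N).co (tmulR M N x) := by
  refine LinearMap.ext fun m => ?_
  show (ComodTens.Comod.tensor M.co N.co).coact (m ⊗ₜ[k] x) = (tmulR M N x).rTensor E.O (M.co.coact m)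
  rw [ComodTens.tensor_coact_tmul, hx]
  generalize M.co.coact m = y
  induction y using TensorProduct.induction_on with
  | zero => simp
  | add x y hx hy => simp only [map_add, TensorProduct.add_tmul, hx, hy]
  | tmul m a =>
    rw [AlgebraTensorModule.tensorTensorTensorComm_tmul, TensorProduct.map_tmul, LinearMap.rTensor_tmul,
      LinearMap.id_apply, LinearMap.mul'_apply, mul_one]
    rfl

theorem res_one {E' : Gp k} (φ : E.O →ₐc[k] E'.O) (N : GMod E) (x : N.V)
    (hx : N.co.coact x = x ⊗ₜ[k] (1 : E.O)) : (N.res φ).co.coact x = x ⊗ₜ[k] (1 : E'.O) := by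
  show TensorProduct.map LinearMap.id (φ : E.O →ₗ[k] E'.O) (N.co.coact x) = _
  rw [hx, TensorProduct.map_tmul]
  simp

/-- `f ⊗ id` is a morphism after restriction -/
theorem rTensor_hom {H E' : Gp k} (ι : H.O →ₐc[k] E.O) (φ : E.O →ₐc[k] E'.O) (V M : GMod E) (X : GMod H)
    (f : V.V →ₗ[k] M.V) (hf : Hoch.IsComodHom E.O f) :
    @Hoch.IsComodHom k _ E'.O _ _ _ ((V.tens (X.res ι)).res φ).V _ _ ((V.tens (X.res ι)).res φ).co
      ((M.res φ).tens (X.res (φ.comp ι))).V _ _ ((M.res φ).tens (X.res (φ.comp ι))).co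
      (f.rTensor X.V : V.V ⊗[k] X.V →ₗ[k] M.V ⊗[k] X.V) := by
  refine TensorProduct.ext' fun v x => ?_
  show (ComodTens.Comod.tensor (M.res φ).co (X.res (φ.comp ι)).co).coact (f v ⊗ₜ[k] x) =
    (f.rTensor X.V).rTensor E'.O (TensorProduct.map LinearMap.id (φ : E.O →ₗ[k] E'.O)
      ((ComodTens.Comod.tensor V.co (X.res ι).co).coact (v ⊗ₜ[k] x)))
  rw [ComodTens.tensor_coact_tmul, ComodTens.tensor_coact_tmul]
  have h1 : (M.res φ).co.coact (f v) = TensorProduct.map LinearMap.id (φ : E.O →ₗ[k] E'.O)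
      (f.rTensor E.O (V.co.coact v)) := by
    have h := LinearMap.congr_fun hf v
    show TensorProduct.map LinearMap.id (φ : E.O →ₗ[k] E'.O) (M.co.coact (f v)) = _
    exact congrArg _ h
  have h2 : (X.res (φ.comp ι)).co.coact x = TensorProduct.map LinearMap.id ((φ.comp ι : H.O →ₐc[k] E'.O) : H.O →ₗ[k] E'.O)
      (X.co.coact x) := rfl
  have h3 : (X.res ι).co.coact x = TensorProduct.map LinearMap.id (ι : H.O →ₗ[k] E.O) (X.co.coact x) := rfl
  rw [h1, h2, h3]
  generalize V.co.coact v = y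
  generalize X.co.coact x = w
  induction y using TensorProduct.induction_on with
  | zero => simp
  | add x y hx hy => simp only [map_add, TensorProduct.add_tmul, hx, hy]
  | tmul m a =>
    induction w using TensorProduct.induction_on with
    | zero => simp
    | add x y hx hy => simp only [map_add, TensorProduct.tmul_add, hx, hy]
    | tmul x h =>
      simp only [LinearMap.rTensor_tmul, TensorProduct.map_tmul, AlgebraTensorModule.tensorTensorTensorComm_tmul,
        LinearMap.id_apply, LinearMap.mul'_apply]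
      congr 1
      exact (map_mul φ a (ι h)).symm

end Homs

theorem OneStep.exists_x {E : Gp k} (S : OneStep E) (W : GMod E) (z : W.C 2) (e : S.V = W) (hz : e ▸ S.z = z) :
    ∃ x : (W.res S.ι).C 1, (W.res S.ι).d 1 x = cres S.ι W 2 z := by
  subst e
  subst hz
  exact ⟨S.x, S.hx⟩

/-- **J10b**, with `e.co.coact 1 = 1 ⊗ 1` (J5) as a hypothesis -/
theorem kill_of (H : Gp k) (h1 : InvOfAdm H) (h2 : KillLat H) (h3 : ∀ E : Gp k, HasOneStep E)
    (h4 : ∀ E : Gp k, LiftClass2 E)
    (h5 : ∀ (T : GMod H) (_ : IsLat T) (e : EndStr T), e.co.coact 1 = (1 : Module.End k T.V) ⊗ₜ[k] (1 : H.O)) :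
    Kill H := by
  intro E ι hAdm M c hc
  obtain ⟨V, hVf, hVfin, f, hf, κ, hκ, β, hβ⟩ := h4 E M c hc
  obtain ⟨T, hT, e, b, hb⟩ := h2 E ι (h1 E ι hAdm) V hVf hVfin κ hκ
  have hone := h5 T hT e
  have := hT.free
  have := hT.fin
  let X : GMod E := e.mod.res ι
  have hXone : X.co.coact (1 : Module.End k T.V) = (1 : Module.End k T.V) ⊗ₜ[k] (1 : E.O) :=
    res_one ι e.mod 1 hone
  let W : GMod E := V.tens X
  let z' : W.C 2 := cmap V W (tmulR V X 1) 2 κ - W.d 1 b
  have hz' : W.d 2 z' = 0 := by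
    show W.d 2 (cmap V W (tmulR V X 1) 2 κ - W.d 1 b) = 0
    rw [map_sub, d_cmap V W (tmulR_hom V X 1 hXone) 2 κ, hκ, map_zero, zero_sub, neg_eq_zero]
    exact @K915.HochDSq.dd_apply k _ E.O _ _ W.V _ _ W.co 1 b
  have hWf : Module.Free k W.V := inferInstanceAs (Module.Free k (V.V ⊗[k] Module.End k T.V))
  have hWfin : Module.Finite k W.V := inferInstanceAs (Module.Finite k (V.V ⊗[k] Module.End k T.V))
  obtain ⟨S, eq, hSz⟩ := h3 E W hWf hWfin z' hz' hb
  obtain ⟨x, hx⟩ := OneStep.exists_x S W z' eq hSz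
  refine ⟨S, T, hT, e, ?_⟩
  let φ := S.ι
  let X' : GMod S.E' := e.mod.res (φ.comp ι)
  let N : GMod S.E' := (M.res φ).tens X'
  have hX'one : X'.co.coact (1 : Module.End k T.V) = (1 : Module.End k T.V) ⊗ₜ[k] (1 : S.E'.O) :=
    res_one (φ.comp ι) e.mod 1 hone
  let g : W.V →ₗ[k] N.V := (f.rTensor X.V : V.V ⊗[k] X.V →ₗ[k] M.V ⊗[k] X.V)
  have hg : @Hoch.IsComodHom k _ S.E'.O _ _ _ (W.res φ).V _ _ (W.res φ).co N.V _ _ N.co g :=
    rTensor_hom ι φ V M e.mod f hf
  have hc' : c = cmap V M f 2 κ + M.d 1 β := by rw [hβ]; abel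
  refine ⟨cmap (M.res φ) N (tmulR (M.res φ) X' 1) 1 (cres φ M 1 β) +
    cmap (W.res φ) N g 1 (x + cres φ W 1 b), ?_⟩
  have e1 : N.d 1 (cmap (M.res φ) N (tmulR (M.res φ) X' 1) 1 (cres φ M 1 β)) =
      cmap (M.res φ) N (tmulR (M.res φ) X' 1) 2 (cres φ M 2 (M.d 1 β)) := by
    rw [d_cmap (M.res φ) N (tmulR_hom (M.res φ) X' 1 hX'one) 1, d_cres]
  have e2 : N.d 1 (cmap (W.res φ) N g 1 (x + cres φ W 1 b)) =
      cmap (W.res φ) N g 2 (cres φ W 2 (cmap V W (tmulR V X 1) 2 κ)) := by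
    rw [d_cmap (W.res φ) N hg 1, map_add, hx, d_cres, ← map_add]
    congr 2
    show cmap V W (tmulR V X 1) 2 κ - W.d 1 b + W.d 1 b = _
    abel
  have e3 : cmap (W.res φ) N g 2 (cres φ W 2 (cmap V W (tmulR V X 1) 2 κ)) =
      cmap (M.res φ) N (tmulR (M.res φ) X' 1) 2 (cres φ M 2 (cmap V M f 2 κ)) := by
    rw [cres_cmap, cres_cmap, cmap_comp, cmap_comp]
    rfl
  have e4 : cres φ M 2 c = cres φ M 2 (M.d 1 β) + cres φ M 2 (cmap V M f 2 κ) := by
    rw [← map_add, add_comm, ← hc']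
  show N.d 1 (cmap (M.res φ) N (tmulR (M.res φ) X' 1) 1 (cres φ M 1 β) + cmap (W.res φ) N g 1 (x + cres φ W 1 b)) =
    cmap (M.res φ) N (tmulR (M.res φ) X' 1) 2 (cres φ M 2 c)
  rw [map_add, e1, e2, e3, ← map_add, e4]

end Groth.Agent.ResProp.EF.K364
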