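import Groth.Agent.ResProp.EF.K364.Kill
import Mathlib.LinearAlgebra.Contraction

/-!
# `1 ∈ End T` is invariant (J5), and the killing lemma J10b
-/

set_option autoImplicit false

universe u

open TensorProduct

noncomputable section

namespace Groth.Agent.ResProp.EF.K364

open Groth.Agent.ResProp.EF.Grp Groth.Agent.ResProp.EF.K624

variable {k : Type u} [CommRing k]

section

variable {V A : Type u} [AddCommGroup V] [Module k V] [CommRing A]

/-- `y · b`, multiplication on the second factor -/
def rm [Algebra k A] (b : A) : V ⊗[k] A →ₗ[k] V ⊗[k] A := (LinearMap.mulRight k b).lTensor V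

/-- `Φ ρ y` -/
def Phi [Algebra k A] : (Module.End k V ⊗[k] A) →ₗ[k] (V ⊗[k] A) →ₗ[k] (V ⊗[k] A) :=
  TensorProduct.curry ((TensorProduct.lift LinearMap.id).rTensor A ∘ₗ
    TensorProduct.map LinearMap.id (LinearMap.mul' k A) ∘ₗ
      (AlgebraTensorModule.tensorTensorTensorComm k k k k (Module.End k V) A V A).toLinearMap)

theorem Phi_tmul [Algebra k A] (g : Module.End k V) (a : A) (v : V) (b : A) :
    Phi (k := k) (g ⊗ₜ[k] a) (v ⊗ₜ[k] b) = g v ⊗ₜ[k] (a * b) := by
  simp [Phi]

theorem Phi_rm [Algebra k A] (ρ : Module.End k V ⊗[k] A) (y : V ⊗[k] A) (b : A) :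
    Phi ρ (rm b y) = rm b (Phi ρ y) := by
  induction ρ using TensorProduct.induction_on with
  | zero => simp
  | add x y hx hy => simp only [map_add, LinearMap.add_apply, hx, hy]
  | tmul g a =>
    induction y using TensorProduct.induction_on with
    | zero => simp
    | add x y hx hy => simp only [map_add, hx, hy]
    | tmul v c =>
      simp only [rm, LinearMap.lTensor_tmul, LinearMap.mulRight_apply, Phi_tmul, mul_assoc]

/-- `Σ y_0 · S(y_1)` -/
def back [HopfAlgebra k A] : (V ⊗[k] A) ⊗[k] A →ₗ[k] V ⊗[k] A :=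
  (LinearMap.mul' k A).lTensor V ∘ₗ ((HopfAlgebra.antipode k (A := A)).lTensor A).lTensor V ∘ₗ
    (TensorProduct.assoc k V A A).toLinearMap

theorem back_tmul [HopfAlgebra k A] (y : V ⊗[k] A) (a : A) :
    back (y ⊗ₜ[k] a) = rm (HopfAlgebra.antipode k a) y := by
  induction y using TensorProduct.induction_on with
  | zero => simp
  | add x y hx hy => simp only [TensorProduct.add_tmul, map_add, hx, hy]
  | tmul v c => simp [back, rm]

theorem back_coact [HopfAlgebra k A] (c : HopfRep.Comod k A V) (v : V) :
    back (c.coact.rTensor A (c.coact v)) = v ⊗ₜ[k] (1 : A) := by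
  have h1 := LinearMap.congr_fun c.coassoc v
  have h2 := LinearMap.congr_fun c.counit_comp v
  simp only [LinearMap.comp_apply, LinearEquiv.coe_coe, LinearMap.flip_apply, TensorProduct.mk_apply] at h1 h2
  show (LinearMap.mul' k A).lTensor V (((HopfAlgebra.antipode k (A := A)).lTensor A).lTensor V
    (TensorProduct.assoc k V A A (c.coact.rTensor A (c.coact v)))) = _
  rw [h1]
  have h3 : ∀ w : V ⊗[k] A, (LinearMap.mul' k A).lTensor V (((HopfAlgebra.antipode k (A := A)).lTensor A).lTensor V
      ((Coalgebra.comul (R := k) (A := A)).lTensor V w)) =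
      (Algebra.linearMap k A).lTensor V ((Coalgebra.counit (R := k) (A := A)).lTensor V w) := by
    intro w
    induction w using TensorProduct.induction_on with
    | zero => simp
    | add x y hx hy => simp only [map_add, hx, hy]
    | tmul v a =>
      simp only [LinearMap.lTensor_tmul]
      congr 1
      exact HopfAlgebra.mul_antipode_lTensor_comul_apply a
  rw [h3, h2]
  simp

end

theorem coact_one {E : Gp k} (T : GMod E) [Module.Free k T.V] [Module.Finite k T.V] (e : EndStr T) :
    e.co.coact 1 = (1 : Module.End k T.V) ⊗ₜ[k] (1 : E.O) := by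
  have hev : ∀ t : T.V, T.co.coact t = Phi (e.co.coact 1) (T.co.coact t) := fun t =>
    LinearMap.congr_fun e.ev ((1 : Module.End k T.V) ⊗ₜ[k] t)
  have hev1 : ∀ t : T.V, Phi (e.co.coact 1) (t ⊗ₜ[k] (1 : E.O)) = t ⊗ₜ[k] (1 : E.O) := by
    intro t
    have h : ∀ w : T.V ⊗[k] E.O, Phi (e.co.coact 1) (back (T.co.coact.rTensor E.O w)) =
        back (T.co.coact.rTensor E.O w) := by
      intro w
      induction w using TensorProduct.induction_on with
      | zero => simp
      | add x y hx hy => simp only [map_add, hx, hy]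
      | tmul v a => rw [LinearMap.rTensor_tmul, back_tmul, Phi_rm, ← hev]
    have h' := h (T.co.coact t)
    rwa [back_coact] at h'
  apply (rTensorHomEquivHomRTensor k T.V T.V E.O).injective
  have key : ∀ ρ : Module.End k T.V ⊗[k] E.O, ∀ t : T.V,
      rTensorHomToHomRTensor (.id k) T.V T.V E.O ρ t = Phi ρ (t ⊗ₜ[k] (1 : E.O)) := by
    intro ρ t
    induction ρ using TensorProduct.induction_on with
    | zero => simp
    | add x y hx hy => simp only [map_add, LinearMap.add_apply, hx, hy]
    | tmul g a => rw [Phi_tmul, mul_one, rTensorHomToHomRTensor_apply]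
  have e1 : ∀ ρ : Module.End k T.V ⊗[k] E.O, rTensorHomEquivHomRTensor k T.V T.V E.O ρ =
      rTensorHomToHomRTensor (.id k) T.V T.V E.O ρ := fun ρ => by
    rw [rTensorHomEquivHomRTensor_apply]
  rw [e1, e1]
  refine LinearMap.ext fun t => ?_
  rw [key, key, hev1, Phi_tmul]
  simp

/-- **J10b** -/
theorem kill (H : Gp k) (h1 : InvOfAdm H) (h2 : KillLat H) (h3 : ∀ E : Gp k, HasOneStep E)
    (h4 : ∀ E : Gp k, LiftClass2 E) : Kill H :=
  kill_of H h1 h2 h3 h4 fun T hT e => by
    have := hT.free
    have := hT.fin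
    exact coact_one T e

end Groth.Agent.ResProp.EF.K364
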